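import Mathlib
import Groth.Agent.Lib.Helper1.CiFields

set_option autoImplicit false
universe u

open MvPolynomial

namespace Groth.Agent.Lib.Helper5.Fano

section chain
variable {k : Type u} [Field k] {σ : Type*} [Fintype σ] [DecidableEq σ]

theorem derivative_aeval (g : σ → Polynomial k) (p : MvPolynomial σ k) :
    Polynomial.derivative (aeval g p) = ∑ i, aeval g (pderiv i p) * Polynomial.derivative (g i) := by
  induction p using MvPolynomial.induction_on with
  | C a =>
    simp
  | add p q hp hq =>
    simp only [map_add, hp, hq, add_mul, Finset.sum_add_distrib]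
  | mul_X p j hp =>
    rw [map_mul, aeval_X, Polynomial.derivative_mul, hp]
    have h1 : ∀ i, aeval g (pderiv i (p * X j)) * Polynomial.derivative (g i) =
        (aeval g (pderiv i p) * Polynomial.derivative (g i)) * g j +
          aeval g p * (if i = j then Polynomial.derivative (g i) else 0) := by
      intro i
      rw [Derivation.leibniz, pderiv_X]
      simp only [smul_eq_mul, map_add, map_mul, aeval_X]
      by_cases hij : i = j
      · subst hij
        simp only [Pi.single_eq_same, map_one, mul_one, if_true]
        ring
      · rw [Pi.single_eq_of_ne' hij]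
        simp only [map_zero, mul_zero, zero_add, if_neg hij, add_zero]
        ring
    simp only [h1, Finset.sum_add_distrib, ← Finset.sum_mul, ← Finset.mul_sum]
    rw [Finset.sum_ite_eq' Finset.univ j]
    simp

theorem eval_aeval_line (u u' : σ → k) (t : k) (p : MvPolynomial σ k) :
    Polynomial.eval t (aeval (fun i => Polynomial.C (u i) + Polynomial.X * Polynomial.C (u' i)) p) =
      eval (fun i => u i + t * u' i) p := by
  induction p using MvPolynomial.induction_on with
  | C a => simp
  | add p q hp hq => simp only [map_add, Polynomial.eval_add, hp, hq]
  | mul_X p j hp =>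
    simp only [map_mul, aeval_X, Polynomial.eval_mul, hp, eval_X, Polynomial.eval_add,
      Polynomial.eval_C, Polynomial.eval_X]

theorem tangent [Infinite k] (f : MvPolynomial σ k) (u u' : σ → k)
    (h : ∀ t : k, eval (fun i => u i + t * u' i) f = 0) :
    ∑ i, eval u (pderiv i f) * u' i = 0 := by
  set g : σ → Polynomial k := fun i => Polynomial.C (u i) + Polynomial.X * Polynomial.C (u' i)
    with hg
  have hp : aeval g f = 0 := by
    apply Polynomial.funext
    intro t
    rw [eval_aeval_line, h t, Polynomial.eval_zero]
  have h1 := derivative_aeval g f
  rw [hp, Polynomial.derivative_zero] at h1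
  have h2 := congrArg (Polynomial.eval 0) h1
  rw [Polynomial.eval_zero, Polynomial.eval_finsetSum] at h2
  rw [h2]
  refine Finset.sum_congr rfl fun i _ => ?_
  rw [Polynomial.eval_mul, eval_aeval_line]
  simp [hg]

end chain

end Groth.Agent.Lib.Helper5.Fano
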