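import Mathlib
import Groth.Agent.Lib.Helper5.Fano.A

set_option autoImplicit false
universe u

open MvPolynomial

namespace Groth.Agent.Lib.Helper5.Fano

section subst
variable {k : Type u} [Field k] {N m : ℕ}

/-- the linear substitution `x_l = ∑_j B j l * X j`. -/
noncomputable def lin (B : Fin m → Fin N → k) : Fin N → MvPolynomial (Fin m) k :=
  fun l => ∑ j, C (B j l) * X j

theorem eval_aeval_lin (B : Fin m → Fin N → k) (a : Fin m → k) (p : MvPolynomial (Fin N) k) :
    eval a (aeval (lin B) p) = eval (fun l => ∑ j, a j * B j l) p := by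
  have h := aeval_bind₁ (S := k) a (lin B) p
  simp only [aeval_eq_eval] at h
  have h2 : aeval (lin B) p = bind₁ (lin B) p := rfl
  rw [h2]
  have h3 : (eval a) ((bind₁ (lin B)) p) = (aeval fun i => (aeval a) (lin B i)) p := h
  rw [h3, aeval_eq_eval]
  congr 2
  funext l
  simp [lin, mul_comm]

theorem isHomogeneous_aeval_lin (B : Fin m → Fin N → k) {p : MvPolynomial (Fin N) k} {e : ℕ}
    (hp : p.IsHomogeneous e) : (aeval (lin B) p).IsHomogeneous e := by
  have := hp.aeval (S := k) (n := 1) (lin B) (by
    intro l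
    apply IsHomogeneous.sum
    intro j _
    exact isHomogeneous_C_mul_X _ _)
  simpa using this

end subst

theorem main (k : Type u) [Field k] [IsAlgClosed k]
    (n d : ℕ) (hd : 2 ≤ d) (f : MvPolynomial (Fin (n + 1)) k) (hf : f.IsHomogeneous d)
    (U : Submodule k (Fin (n + 1) → k)) (hU : ∀ u ∈ U, MvPolynomial.eval u f = 0)
    (hsm : ∀ u ∈ U, u ≠ 0 → ∃ i : Fin (n + 1), MvPolynomial.eval u (MvPolynomial.pderiv i f) ≠ 0) :
    2 * Module.finrank k ↥U ≤ n + 1 := by
  classical
  by_contra hlt
  push Not at hlt
  set m := Module.finrank k U with hm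
  obtain ⟨Cc, hC⟩ := Submodule.exists_isCompl U
  set r := Module.finrank k Cc with hr
  have hdim : m + r = n + 1 := by
    have := Submodule.finrank_add_eq_of_isCompl hC
    rw [Module.finrank_fin_fun] at this
    exact this
  let b := Module.finBasis k U
  let c := Module.finBasis k Cc
  let B : Fin m → Fin (n + 1) → k := fun j => (b j : Fin (n + 1) → k)
  let H : Fin r → MvPolynomial (Fin m) k := fun t =>
    ∑ i, C ((c t : Fin (n + 1) → k) i) * aeval (lin B) (pderiv i f)
  have hH : ∀ t, (H t).IsHomogeneous (d - 1) := by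
    intro t
    apply IsHomogeneous.sum
    intro i _
    apply IsHomogeneous.C_mul
    exact isHomogeneous_aeval_lin B hf.pderiv
  have hci := Groth.Agent.H1.CiFields.isCi_zero_of_isAlgClosed k
  obtain ⟨a, ha0, ha⟩ := hci r m H (fun _ => d - 1) hH (fun _ => by omega)
    (by simp only [pow_zero, Finset.sum_const, Finset.card_univ, Fintype.card_fin, smul_eq_mul,
      mul_one]; omega)
  -- the point
  let uU : U := ∑ j, a j • b j
  have huU : uU ≠ 0 := by
    intro h
    apply ha0
    have h1 : b.equivFun uU = a := by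
      have : uU = b.equivFun.symm a := by
        rw [Module.Basis.equivFun_symm_apply]
      rw [this, LinearEquiv.apply_symm_apply]
    rw [← h1, h, map_zero]
  let u : Fin (n + 1) → k := (uU : Fin (n + 1) → k)
  have hu_eq : u = fun l => ∑ j, a j * B j l := by
    funext l
    change ((∑ j, a j • b j : U) : Fin (n + 1) → k) l = _
    rw [Submodule.coe_sum, Finset.sum_apply]
    rfl
  have huU' : u ≠ 0 := fun h => huU (Subtype.ext h)
  let g : Fin (n + 1) → k := fun i => eval u (pderiv i f)
  -- orthogonal to the complement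
  have hgc : ∀ t, ∑ i, g i * (c t : Fin (n + 1) → k) i = 0 := by
    intro t
    have := ha t
    simp only [H, map_sum, map_mul, eval_C, eval_aeval_lin] at this
    rw [← hu_eq] at this
    rw [← this]
    exact Finset.sum_congr rfl fun i _ => mul_comm _ _
  -- orthogonal to U
  have hgU : ∀ u' ∈ U, ∑ i, g i * u' i = 0 := by
    intro u' hu'
    apply tangent f u u'
    intro t
    apply hU
    have : (fun i => u i + t * u' i) = u + t • u' := by
      funext i
      simp
    rw [this]
    exact U.add_mem uU.2 (U.smul_mem t hu')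
  have hgall : ∀ y : Fin (n + 1) → k, ∑ i, g i * y i = 0 := by
    intro y
    have hy : y ∈ U ⊔ Cc := by rw [hC.sup_eq_top]; trivial
    obtain ⟨u', hu', c', hc', rfl⟩ := Submodule.mem_sup.1 hy
    simp only [Pi.add_apply, mul_add, Finset.sum_add_distrib]
    rw [hgU u' hu', zero_add]
    have hc'' : c' = ∑ t, (c.repr ⟨c', hc'⟩ t) • (c t : Fin (n + 1) → k) := by
      have := c.sum_repr ⟨c', hc'⟩
      have h2 := congrArg (Subtype.val : Cc → Fin (n + 1) → k) this
      rw [Submodule.coe_sum] at h2
      simp only [Submodule.coe_smul] at h2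
      exact h2.symm
    rw [hc'']
    simp only [Finset.sum_apply, Pi.smul_apply, smul_eq_mul, Finset.mul_sum]
    rw [Finset.sum_comm]
    apply Finset.sum_eq_zero
    intro t _
    have := hgc t
    calc ∑ i, g i * (c.repr ⟨c', hc'⟩ t * (c t : Fin (n + 1) → k) i)
        = c.repr ⟨c', hc'⟩ t * ∑ i, g i * (c t : Fin (n + 1) → k) i := by
          rw [Finset.mul_sum]
          exact Finset.sum_congr rfl fun i _ => by ring
      _ = 0 := by rw [this, mul_zero]
  obtain ⟨i, hi⟩ := hsm u uU.2 huU'
  apply hi
  have := hgall (Pi.single i 1)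
  simpa [Pi.single_apply] using this

end Groth.Agent.Lib.Helper5.Fano
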